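import Cfsg.Agent.H4.GW.AutShape
import Mathlib.FieldTheory.Finite.Basic

/-!
Involutory automorphisms of `PSL₂(q)`, `q` odd, whose fixed points contain no four-group are induced by
`GL₂(q)`.
-/

set_option autoImplicit false
set_option linter.style.haveILetI false

namespace Cfsg.Agent.H91.GWCons

open Cfsg.Agent.H56 (PSLn SLn semiAut glMap toP smat)
open Cfsg.Agent.H5.EvenCyclic (fldAut linAut)
open Matrix Polynomial

/-- The fixed points of `α` contain no four-group. -/
def NoFour {T : Type*} [Group T] (α : MulAut T) : Prop :=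
  ∀ v w : T, α v = v → α w = w → v * v = 1 → w * w = 1 → v * w = w * v → v = 1 ∨ w = 1 ∨ v = w

variable {F : Type} [Field F] [Fintype F]

/-- Norms to the fixed field of an involutory automorphism cover the fixed field. -/
theorem exists_norm_eq (hodd : Odd (Fintype.card F)) {σ : F ≃+* F} (hσσ : ∀ x, σ (σ x) = x)
    (hσ : σ ≠ RingEquiv.refl F) {e : F} (he : σ e = e) :
    ∃ μ : F, μ * σ μ = e := by
  classical
  obtain ⟨a, ha⟩ : ∃ a, σ a ≠ a := by
    by_contra! h
    exact hσ (RingEquiv.ext h)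
  set z := a - σ a with hz
  have hz0 : z ≠ 0 := sub_ne_zero.2 (Ne.symm ha)
  have hσz : σ z = -z := by rw [hz, map_sub, hσσ]; ring
  let F₀ : Subfield F := RingHom.eqLocusField (σ : F →+* F) (RingHom.id F)
  haveI := Fintype.ofFinite F₀
  have hodd₀ : Fintype.card F₀ % 2 = 1 :=
    Nat.odd_iff.1 (Nat.card_eq_fintype_card (α := F₀) ▸ H4.GW.odd_card_subfield hodd F₀)
  let d : F₀ := ⟨z * z, show σ (z * z) = z * z by rw [map_mul, hσz, neg_mul_neg]⟩
  let e₀ : F₀ := ⟨e, he⟩
  have hd0 : d ≠ 0 := fun h => mul_ne_zero hz0 hz0 (congrArg Subtype.val h)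
  obtain ⟨x, y, hxy⟩ := FiniteField.exists_root_sum_quadratic (R := F₀)
    (f := X ^ 2 - C e₀) (g := C (-d) * X ^ 2) (degree_X_pow_sub_C (by norm_num) _)
    (degree_C_mul_X_pow 2 (neg_ne_zero.2 hd0)) hodd₀
  simp only [eval_sub, eval_pow, eval_X, eval_C, eval_mul] at hxy
  have h' : (x : F) ^ 2 - e + -(z * z) * (y : F) ^ 2 = 0 := congrArg Subtype.val hxy
  refine ⟨x + z * y, ?_⟩
  rw [map_add, map_mul, hσz, show σ (x : F) = x from x.2, show σ (y : F) = y from y.2]
  linear_combination h'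

omit [Fintype F] in
theorem glMap_scalar (σ : F ≃+* F) (c : Fˣ) :
    glMap σ (GeneralLinearGroup.scalar (Fin 2) c) =
      GeneralLinearGroup.scalar (Fin 2) (Units.map (σ : F →* F) c) := by
  apply Units.ext
  ext i j
  fin_cases i <;> fin_cases j <;> simp [H56.glMap_coe, GeneralLinearGroup.coe_scalar]

/-- An involutory automorphism without fixed four-group is induced by `GL₂`. -/
theorem exists_linAut (hodd : Odd (Fintype.card F)) {α : MulAut (PSLn 2 F)} (hα : α * α = 1)
    (hno : NoFour α) : ∃ g, α = linAut g := by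
  classical
  obtain ⟨g, σ, h⟩ := H56.exists_decomp le_rfl α
  have hα' : α = semiAut g σ := h.resolve_right fun h => absurd h.1 (by norm_num)
  by_cases hσ : σ = RingEquiv.refl F
  · subst hσ
    exact ⟨g, hα'⟩
  exfalso
  have h1 : semiAut (g * glMap σ g) (σ.trans σ) = 1 := by
    rw [← H56.semiAut_mul, ← hα', hα]
  obtain ⟨hσσ', c, hc⟩ := H56.eq_of_semiAut_eq_one le_rfl h1
  have hσσ : ∀ x, σ (σ x) = x := fun x => RingEquiv.congr_fun hσσ' x
  have hcomm : glMap σ g * g = g * glMap σ g := by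
    have hcc : g⁻¹ * GeneralLinearGroup.scalar (Fin 2) c * g = GeneralLinearGroup.scalar (Fin 2) c := by
      have hmem : GeneralLinearGroup.scalar (Fin 2) c ∈ Subgroup.center (GL (Fin 2) F) := by
        rw [GeneralLinearGroup.center_eq_range_scalar]; exact ⟨c, rfl⟩
      rw [mul_assoc, ← Subgroup.mem_center_iff.1 hmem g, inv_mul_cancel_left]
    calc glMap σ g * g = g⁻¹ * (g * glMap σ g) * g := by rw [inv_mul_cancel_left]
      _ = g * glMap σ g := by rw [hc, hcc]
  have hfix : σ (c : F) = c := by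
    have hgg : glMap σ (glMap σ g) = g := by
      apply Units.ext
      ext i j
      exact hσσ _
    have h2 : glMap σ (GeneralLinearGroup.scalar (Fin 2) c) = GeneralLinearGroup.scalar (Fin 2) c := by
      rw [← hc, map_mul, hgg, hcomm]
    have h3 := congrArg (fun M : GL (Fin 2) F => (M : Matrix (Fin 2) (Fin 2) F) 0 0) h2
    simpa [H56.glMap_coe, GeneralLinearGroup.coe_scalar] using h3
  obtain ⟨μ, hμ⟩ := exists_norm_eq hodd hσσ hσ (e := (c : F)⁻¹) (by rw [map_inv₀, hfix])
  have hμ0 : μ ≠ 0 := fun h => inv_ne_zero c.ne_zero (by rw [← hμ, h, zero_mul])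
  have hlam : σ μ * (c : F) = μ⁻¹ := by
    field_simp
    have h2 := congrArg (· * (c : F)) hμ
    simp only [inv_mul_cancel₀ c.ne_zero] at h2
    linear_combination h2
  set G : Matrix (Fin 2) (Fin 2) F := (g : Matrix (Fin 2) (Fin 2) F) with hG
  have hGG : G * G.map σ = (c : F) • (1 : Matrix (Fin 2) (Fin 2) F) := by
    have := congrArg (fun M : GL (Fin 2) F => (M : Matrix (Fin 2) (Fin 2) F)) hc
    simp only [Units.val_mul, H56.glMap_coe, GeneralLinearGroup.coe_scalar] at this
    rw [hG, this, Matrix.scalar_apply, Matrix.smul_one_eq_diagonal]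
  obtain ⟨a, ha⟩ : ∃ a : F, (a • (1 : Matrix (Fin 2) (Fin 2) F) + (σ a * μ) • G).det ≠ 0 := by
    obtain ⟨z, hz0, hσz⟩ : ∃ z : F, z ≠ 0 ∧ σ z = -z := by
      obtain ⟨a, ha⟩ : ∃ a, σ a ≠ a := by
        by_contra! h
        exact hσ (RingEquiv.ext h)
      exact ⟨a - σ a, sub_ne_zero.2 (Ne.symm ha), by rw [map_sub, hσσ]; ring⟩
    have h2 := H4.GW.two_ne hodd
    have h1z : 1 + z ≠ 0 := fun h0 => h2 (by
      have := congrArg σ h0
      rw [map_add, map_one, map_zero, hσz] at this
      linear_combination h0 + this)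
    by_contra! hall
    have e1 := hall 1
    have e2 := hall z
    have e3 := hall (1 + z)
    simp only [Matrix.det_fin_two, Matrix.add_apply, Matrix.smul_apply, Matrix.one_apply_eq,
      Matrix.one_apply_ne (show (0 : Fin 2) ≠ 1 by decide),
      Matrix.one_apply_ne (show (1 : Fin 2) ≠ 0 by decide), smul_eq_mul, map_one, map_add, hσz] at e1 e2 e3
    have hdet : G.det ≠ 0 := Matrix.GeneralLinearGroup.det_ne_zero g
    rw [Matrix.det_fin_two] at hdet
    generalize G 0 0 * G 1 1 - G 0 1 * G 1 0 = D at hdet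
    have hlin : 2 * μ * (G 0 0 + G 1 1) = 0 := by
      refine (mul_eq_zero.1 (?_ : z * z * (2 * μ * (G 0 0 + G 1 1)) = 0)).resolve_left (mul_ne_zero hz0 hz0)
      linear_combination (z * z) * e1 - e2
    have ht : G 0 0 + G 1 1 = 0 := (mul_eq_zero.1 hlin).resolve_left (mul_ne_zero h2 hμ0)
    have e1' : 1 + μ * μ * (G 0 0 * G 1 1 - G 0 1 * G 1 0) = 0 := by linear_combination e1 - μ * ht
    have e3' : (1 + z) ^ 2 + (1 - z) ^ 2 * (μ * μ) * (G 0 0 * G 1 1 - G 0 1 * G 1 0) = 0 := by
      linear_combination e3 - (1 + z) * (1 - z) * μ * ht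
    have : 2 * (2 * z) = 0 := by linear_combination e3' - (1 - z) ^ 2 * e1'
    exact mul_ne_zero h2 (mul_ne_zero h2 hz0) this
  set H : GL (Fin 2) F := GeneralLinearGroup.mk'' _ (Ne.isUnit ha) with hH
  have hkey : g * glMap σ H = H * GeneralLinearGroup.scalar (Fin 2) (Units.mk0 μ hμ0)⁻¹ := by
    apply Units.ext
    simp only [Units.val_mul, H56.glMap_coe, GeneralLinearGroup.coe_scalar]
    show G * (a • (1 : Matrix (Fin 2) (Fin 2) F) + (σ a * μ) • G).map σ = _
    rw [Matrix.map_add _ (map_add σ), Matrix.map_smulₛₗ σ σ _ (fun _ => map_mul σ _ _),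
      Matrix.map_smulₛₗ σ σ _ (fun _ => map_mul σ _ _), Matrix.map_one σ (map_zero σ) (map_one σ),
      mul_add, mul_smul_comm, mul_smul_comm, mul_one, hGG, smul_smul, map_mul, hσσ, mul_assoc, hlam,
      Matrix.scalar_apply, ← Matrix.smul_one_eq_diagonal, mul_smul_comm, mul_one,
      show (H : Matrix (Fin 2) (Fin 2) F) = a • 1 + (σ a * μ) • G from rfl, smul_add, smul_smul,
      smul_smul]
    rw [show ((Units.mk0 μ hμ0)⁻¹ : Fˣ) = (μ⁻¹ : F) from Units.val_inv_eq_inv_val _]
    rw [show μ⁻¹ * (σ a * μ) = σ a by field_simp, mul_comm μ⁻¹ a, add_comm]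
  have hαH : α * linAut H = linAut H * fldAut σ := by
    rw [← H5.EvenCyclic.semiAut_eq, hα', H5.EvenCyclic.linAut_apply, H56.semiAut_mul, hkey,
      H5.EvenCyclic.semiAut_eq, map_mul, H5.EvenCyclic.linAut_scalar, mul_one,
      ← H5.EvenCyclic.semiAut_eq]
    rfl
  obtain ⟨s, hfix, hs1, hs2, hsw, hsc⟩ := H4.GW.exists_fixed_pair hodd σ
  have hfld : ∀ x : SLn 2 F, (smat x).map σ = smat x → fldAut σ (toP x) = toP x := by
    intro x hx
    rw [H5.EvenCyclic.fldAut_apply, H56.semiAut_toP]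
    refine congrArg toP (Subtype.ext ?_)
    show smat (H56.semiSL 1 σ x) = smat x
    rw [H56.smat_semiSL, hx]
    simp
  have hfixα : ∀ x : PSLn 2 F, fldAut σ x = x → α (linAut H x) = linAut H x := fun x hx => by
    have := DFunLike.congr_fun hαH x
    rw [MulAut.mul_apply, MulAut.mul_apply, hx] at this
    exact this
  have hw2 : toP (H5.EvenCyclic.wm F) * toP (H5.EvenCyclic.wm F) = 1 := by
    rw [← pow_two]; exact orderOf_dvd_iff_pow_eq_one.1 (dvd_of_eq (H5.EvenCyclic.toP_wm_order hodd))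
  have hw1 : toP (H5.EvenCyclic.wm F) ≠ 1 := fun h0 => by
    have := H5.EvenCyclic.toP_wm_order (F := F) hodd
    rw [h0, orderOf_one] at this
    exact absurd this (by norm_num)
  rcases hno (linAut H (toP (H5.EvenCyclic.wm F))) (linAut H (toP s))
      (hfixα _ (hfld _ (by rw [H5.EvenCyclic.wm_coe]; ext i j; fin_cases i <;> fin_cases j <;> simp)))
      (hfixα _ (hfld _ hfix)) (by rw [← map_mul, hw2, map_one]) (by rw [← map_mul, hs2, map_one])
      (((map_mul _ _ _).symm.trans (congrArg (linAut H) hsc.eq)).trans (map_mul _ _ _)) with h | h | h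
  · exact hw1 ((linAut H).injective (h.trans (map_one _).symm))
  · exact hs1 ((linAut H).injective (h.trans (map_one _).symm))
  · exact hsw ((linAut H).injective h).symm

end Cfsg.Agent.H91.GWCons
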