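import Cfsg.Agent.H91.RankOneSE.Main
import Cfsg.Agent.Linear.Dickson.Maximal
import Cfsg.Agent.S0253
import Cfsg.Agent.S0255

/-!
Consumers of the dihedral Sylow theorem: simple groups in which an involution centraliser is not maximal.
-/

set_option autoImplicit false
set_option linter.style.haveILetI false

namespace Cfsg.Agent.H91.GWCons

open Subgroup
open Cfsg.Agent.Linear.Dickson

universe u

/-- The simple case of the dihedral Sylow theorem. -/
theorem simpleShape_of_simple (hGW : H91.RankOneSE.PerfectDihedral.{u}) {G : Type u} [Group G] [Finite G]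
    [IsSimpleGroup G] (hG : ¬ IsMulCommutative G) (S : Sylow 2 G) {m : ℕ}
    (eS : ↥(S : Subgroup G) ≃* DihedralGroup m) (h2 : 2 ∣ Nat.card G) : H63.GW.SimpleShape G := by
  haveI : Fact (Nat.Prime 2) := ⟨Nat.prime_two⟩
  haveI : Group.IsPerfect G := ⟨(IsSimpleGroup.eq_bot_or_eq_top_of_normal (commutator G) inferInstance).resolve_left
    fun h => hG ⟨⟨fun a b => mem_centralizer_iff.1
      ((commutator_eq_bot_iff_le_centralizer.1 (by rwa [← _root_.commutator_def])) (mem_top b)) a (mem_top a)⟩⟩⟩
  have hO : Cfsg.oddCore G = ⊥ := by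
    haveI : (Cfsg.oddCore G).Normal := @normal_of_characteristic _ _ _ Cores.pPrimeCore_characteristic
    refine (IsSimpleGroup.eq_bot_or_eq_top_of_normal (Cfsg.oddCore G) inferInstance).resolve_right fun h => ?_
    have := Cores.odd_card_oddCore (G := G)
    rw [h, card_top] at this
    exact Nat.not_even_iff_odd.2 this (even_iff_two_dvd.2 h2)
  have hm : 2 ≤ m := by
    have h1 : Nat.card ↥(S : Subgroup G) = 2 * m := (Nat.card_congr eS.toEquiv).trans DihedralGroup.nat_card
    obtain ⟨k, hk⟩ := S.isPGroup'.exists_card_eq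
    by_contra hlt
    have hm1 : m = 1 := by
      have := Nat.card_pos (α := ↥(S : Subgroup G))
      omega
    subst hm1
    haveI : IsCyclic ↥(S : Subgroup G) := isCyclic_of_prime_card (p := 2) (by omega)
    have hp := H63.GW.isPGroup_of_complement hO (H63.GW.hasNormalPComplement_of_cyclic S)
    haveI := hp.center_nontrivial
    rcases IsSimpleGroup.eq_bot_or_eq_top_of_normal (center G) inferInstance with hz | hz
    · exact (nontrivial_iff_ne_bot _).1 inferInstance hz
    · exact hG ⟨⟨fun a b => mem_center_iff.1 (hz ▸ mem_top b) a⟩⟩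
  haveI : (Cfsg.oddCore G).Normal := @normal_of_characteristic _ _ _ Cores.pPrimeCore_characteristic
  let e0 : G ⧸ Cfsg.oddCore G ≃* G := (QuotientGroup.quotientMulEquivOfEq hO).trans QuotientGroup.quotientBot
  rcases hGW G S m hm ⟨eS⟩ with ⟨F, i1, i2, h1, h2, ⟨f⟩⟩ | hf
  · exact Or.inl ⟨F, i1, i2, h1, h2, ⟨e0.symm.trans f⟩⟩
  · obtain ⟨f⟩ := hf
    exact Or.inr ⟨e0.symm.trans f⟩

/-- In `PSL₂(q)`, `q ≥ 11` odd, involution centralisers are maximal. -/
theorem isCoatom_centralizer {F : Type*} [Field F] [Fintype F] (hodd : Odd (Fintype.card F))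
    (hq : 11 ≤ Fintype.card F) {t : Matrix.ProjectiveSpecialLinearGroup (Fin 2) F} (ht : orderOf t = 2) :
    IsCoatom (centralizer ({t} : Set (Matrix.ProjectiveSpecialLinearGroup (Fin 2) F))) := by
  classical
  obtain ⟨p, hchar⟩ := CharP.exists F
  haveI : Fact p.Prime := ⟨CharP.char_is_prime F p⟩
  have hp2 : p ≠ 2 := by
    rintro rfl
    obtain ⟨n, -, hn⟩ := FiniteField.card F 2
    rw [hn] at hodd
    exact Nat.not_even_iff_odd.2 hodd (by simp [Nat.even_pow])
  have ht1 : t ≠ 1 := fun h => by rw [h, orderOf_one] at ht; omega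
  have hnu : ¬ IsUni t := fun h => by
    have h1 := orderOf_dvd_of_pow_eq_one (pow_char_eq_one_of_isUni p h)
    rw [ht] at h1
    exact hp2 ((Nat.prime_dvd_prime_iff_eq Nat.prime_two Fact.out).1 h1).symm
  haveI := isCyclic_cen hnu
  have htc : t ∈ cen t := mem_cen_self t
  have huniq : ∀ s ∈ cen t, orderOf s = 2 → s = t := by
    intro s hs hs2
    haveI : Fintype (cen t) := Fintype.ofFinite _
    have h2 : 2 ∣ Fintype.card (cen t) := by
      have := orderOf_dvd_card (x := (⟨t, htc⟩ : cen t))
      rwa [Subgroup.orderOf_mk, ht] at this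
    have hone := IsCyclic.card_orderOf_eq_totient (α := cen t) h2
    rw [Nat.totient_two, Finset.card_eq_one] at hone
    obtain ⟨w, hw⟩ := hone
    have e1 : (⟨s, hs⟩ : cen t) = w := Finset.mem_singleton.1 (hw ▸ Finset.mem_filter.2
      ⟨Finset.mem_univ _, by rw [Subgroup.orderOf_mk]; exact hs2⟩)
    have e2 : (⟨t, htc⟩ : cen t) = w := Finset.mem_singleton.1 (hw ▸ Finset.mem_filter.2
      ⟨Finset.mem_univ _, by rw [Subgroup.orderOf_mk]; exact ht⟩)
    exact congrArg Subtype.val (e1.trans e2.symm)
  have heq : centralizer ({t} : Set (Matrix.ProjectiveSpecialLinearGroup (Fin 2) F)) =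
      normalizer ((cen t : Subgroup _) : Set (Matrix.ProjectiveSpecialLinearGroup (Fin 2) F)) := by
    ext g
    rw [mem_centralizer_singleton_iff, mem_normalizer_iff]
    constructor
    · intro hg x
      have hgt : g * t * g⁻¹ = t := by rw [hg, mul_inv_cancel_right]
      constructor
      · intro hx
        have := (mem_cen_conj g t x).2 hx
        rwa [hgt] at this
      · intro hx
        refine (mem_cen_conj g t x).1 ?_
        rwa [hgt]
    · intro hg
      have h1 := huniq _ ((hg t).1 htc) (by rw [H39.orderOf_conj, ht])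
      exact mul_inv_eq_iff_eq_mul.1 h1
  rw [heq]
  have hcard := card_cen_cases hnu
  have hgcd : Nat.gcd 2 (Fintype.card F - 1) = 2 :=
    Nat.gcd_eq_left (by obtain ⟨k, hk⟩ := hodd; omega)
  rw [hgcd] at hcard
  have h2dvd : 2 ∣ Nat.card (cen t) := by
    have := orderOf_dvd_natCard (cen t) htc
    rwa [ht] at this
  refine isCoatom_torus hnu ?_ (by omega) (by omega) (by omega) fun h => ?_
  · rcases hcard with h | h <;> omega
  · intro h11
    rw [hgcd, h11] at h
    omega

/-- A simple group with dihedral Sylow 2-subgroups in which an involution centraliser is properly contained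
in a subgroup without components. -/
theorem minimal_centralizer (hGW : H91.RankOneSE.PerfectDihedral.{u}) {G : Type u} [Group G] [Finite G]
    [IsSimpleGroup G] (S : Sylow 2 G) (m : ℕ) (eS : ↥(S : Subgroup G) ≃* DihedralGroup m)
    (t : G) (ht : orderOf t = 2) (K : Subgroup G) (hlt : centralizer ({t} : Set G) < K)
    (hK : Cfsg.generalizedFittingSubgroup ↥K = Cfsg.fittingSubgroup ↥K) :
    Nonempty (G ≃* ↥(alternatingGroup (Fin 5))) ∨ Nonempty (G ≃* ↥(alternatingGroup (Fin 7))) ∨
      (∃ (F : Type) (_ : Field F) (_ : Fintype F), Fintype.card F = 2 ∧ Nonempty (G ≃* Matrix.ProjectiveSpecialLinearGroup (Fin 3) F)) ∨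
      (∃ (F : Type) (_ : Field F) (_ : Fintype F), Fintype.card F = 9 ∧ Nonempty (G ≃* Matrix.ProjectiveSpecialLinearGroup (Fin 2) F)) := by
  have hG : ¬ IsMulCommutative G := fun h => hlt.not_ge (fun x _ =>
    mem_centralizer_singleton_iff.2 (h.is_comm.comm x t))
  have h2 : 2 ∣ Nat.card G := ht ▸ orderOf_dvd_natCard t
  have hKtop : K ≠ ⊤ := by
    rintro rfl
    have h1 := Cores.fittingSubgroup_map_mulEquiv (topEquiv (G := G))
    have hbot : Cfsg.fittingSubgroup G = ⊥ := by
      refine (IsSimpleGroup.eq_bot_or_eq_top_of_normal _ Components.fitting_normal).resolve_right fun h => ?_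
      haveI : Group.IsNilpotent ↥(Cfsg.fittingSubgroup G) := Components.fitting_isNilpotent
      rw [h] at this
      haveI : Group.IsSolvable G :=
        Group.isSolvable_of_surjective (f := (topEquiv (G := G)).toMonoidHom) (topEquiv (G := G)).surjective
      exact hG ⟨⟨IsSimpleGroup.comm_iff_isSolvable.2 inferInstance⟩⟩
    rw [hbot, map_eq_bot_iff_of_injective _ (topEquiv (G := G)).injective] at h1
    have hC := Components.centralizer_genFitting_le (G := ↥(⊤ : Subgroup G))
    rw [hK, h1] at hC
    have : (⟨t, mem_top t⟩ : ↥(⊤ : Subgroup G)) ∈ (⊥ : Subgroup ↥(⊤ : Subgroup G)) :=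
      hC (mem_centralizer_iff.2 fun v hv => by rw [mem_bot.1 hv, one_mul, mul_one])
    rw [mem_bot] at this
    have ht1 : t = 1 := congrArg Subtype.val this
    rw [ht1, orderOf_one] at ht
    omega
  have hmax : ¬ IsCoatom (centralizer ({t} : Set G)) := fun h => hKtop (h.2 K hlt)
  rcases simpleShape_of_simple hGW hG S eS h2 with ⟨F, iF, iF', hodd, h3, ⟨e⟩⟩ | h
  · by_cases h11 : 11 ≤ Fintype.card F
    · exfalso
      refine hmax ?_
      have hc := isCoatom_centralizer hodd h11 (t := e t)
        ((orderOf_injective e.toMonoidHom e.injective t).trans ht)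
      have he : centralizer ({t} : Set G) =
          (centralizer ({e t} : Set (Matrix.ProjectiveSpecialLinearGroup (Fin 2) F))).comap e.toMonoidHom := by
        ext g
        simp only [mem_comap, mem_centralizer_singleton_iff, MulEquiv.coe_toMonoidHom]
        rw [← map_mul, ← map_mul]
        exact (EquivLike.apply_eq_iff_eq e).symm
      rw [he]
      convert (e.mapSubgroup.symm.isCoatom_iff _).2 hc using 1
      rw [MulEquiv.symm_mapSubgroup, MulEquiv.mapSubgroup_apply]
      exact Subgroup.comap_equiv_eq_map_symm e _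
    · obtain ⟨k, hk⟩ := hodd
      rcases (show Fintype.card F = 5 ∨ Fintype.card F = 7 ∨ Fintype.card F = 9 by omega) with h | h | h
      · obtain ⟨f⟩ := S0253.result h
        exact Or.inl ⟨e.trans f⟩
      · obtain ⟨f⟩ := S0255.result h (K := ZMod 2) (ZMod.card 2)
        exact Or.inr (Or.inr (Or.inl ⟨ZMod 2, inferInstance, inferInstance, ZMod.card 2, ⟨e.trans f⟩⟩))
      · exact Or.inr (Or.inr (Or.inr ⟨F, iF, iF', h, ⟨e⟩⟩))
  · exact Or.inr (Or.inl h)

end Cfsg.Agent.H91.GWCons
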