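import Cfsg.Agent.H91.GW.OverTorus
import Cfsg.Agent.Linear.Dickson.Maximal

/-!
Fixed points of an outer involutory automorphism `linAut g` of `PSL₂(q)`: they lie in the normaliser
of the torus they contain.
-/

set_option autoImplicit false
set_option linter.unusedSectionVars false

namespace Cfsg.Agent.H91.GWCons

open Matrix Cfsg.Agent Cfsg.Agent.Linear Cfsg.Agent.Linear.Dickson Cfsg.Agent.H55
open Cfsg.Agent.H56 (PSLn SLn toP)
open Cfsg.Agent.H5.EvenCyclic (linAut)

variable {F : Type} [Field F] [Fintype F]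

local notation "M2" => Matrix (Fin 2) (Fin 2) F
local notation "P2" => Matrix.ProjectiveSpecialLinearGroup (Fin 2) F

/-- A lift of a fixed point commutes or anticommutes with `g`. -/
theorem lift_cases {g : GL (Fin 2) F} {Z : SLn 2 F} (h : linAut g (toPSL Z) = toPSL Z) :
    (g : M2) * (Z : M2) = (Z : M2) * (g : M2) ∨ (g : M2) * (Z : M2) = -((Z : M2) * (g : M2)) := by
  have e : toPSL (H56.semiSL g (RingEquiv.refl F) Z) = toPSL Z := h
  have hm : H56.smat (H56.semiSL g (RingEquiv.refl F) Z) =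
      (g : M2) * (Z : M2) * ((g⁻¹ : GL (Fin 2) F) : M2) := by
    rw [H56.smat_semiSL]; congr
  have hinv : ((g⁻¹ : GL (Fin 2) F) : M2) * (g : M2) = 1 := by
    rw [← Units.val_mul, inv_mul_cancel, Units.val_one]
  rcases (toPSL_two_eq_iff _ _).1 e with e' | e'
  · left
    have e'' : (g : M2) * (Z : M2) * ((g⁻¹ : GL (Fin 2) F) : M2) = (Z : M2) := by rw [← hm, e']
    calc (g : M2) * (Z : M2) = (g : M2) * (Z : M2) * ((g⁻¹ : GL (Fin 2) F) : M2) * (g : M2) := by
          rw [mul_assoc ((g : M2) * (Z : M2)), hinv, mul_one]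
      _ = _ := by rw [e'']
  · right
    have e'' : (g : M2) * (Z : M2) * ((g⁻¹ : GL (Fin 2) F) : M2) = -(Z : M2) := by
      rw [← hm, e']; exact Matrix.SpecialLinearGroup.coe_neg Z
    calc (g : M2) * (Z : M2) = (g : M2) * (Z : M2) * ((g⁻¹ : GL (Fin 2) F) : M2) * (g : M2) := by
          rw [mul_assoc ((g : M2) * (Z : M2)), hinv, mul_one]
      _ = _ := by rw [e'', neg_mul]

theorem fixed_of_commute {g : GL (Fin 2) F} {Z : SLn 2 F} (h : (g : M2) * (Z : M2) = (Z : M2) * (g : M2)) :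
    linAut g (toPSL Z) = toPSL Z := by
  show toPSL (H56.semiSL g (RingEquiv.refl F) Z) = toPSL Z
  refine congrArg toPSL (Subtype.ext ?_)
  show H56.smat (H56.semiSL g (RingEquiv.refl F) Z) = (Z : M2)
  rw [H56.smat_semiSL, show (H56.smat Z).map (RingEquiv.refl F) = (Z : M2) from by ext i j; rfl, h,
    mul_assoc, ← Units.val_mul, mul_inv_cancel, Units.val_one, mul_one]

/-- The lift of a fixed non-involution commutes with `g`. -/
theorem commute_lift (h2 : (2 : F) ≠ 0) {g : GL (Fin 2) F} {Z : SLn 2 F}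
    (h : linAut g (toPSL Z) = toPSL Z) (hz : toPSL Z * toPSL Z ≠ 1) :
    (g : M2) * (Z : M2) = (Z : M2) * (g : M2) := by
  refine (lift_cases h).resolve_right fun e => H62.GW.trace_ne_zero_of_sq hz ?_
  have hinv : ((g⁻¹ : GL (Fin 2) F) : M2) * (g : M2) = 1 := by
    rw [← Units.val_mul, inv_mul_cancel, Units.val_one]
  have ht : ((g : M2) * (Z : M2) * ((g⁻¹ : GL (Fin 2) F) : M2)).trace = (Z : M2).trace := by
    rw [Matrix.trace_mul_cycle, hinv, one_mul]
  rw [e, neg_mul, mul_assoc, ← Units.val_mul, mul_inv_cancel, Units.val_one, mul_one,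
    Matrix.trace_neg] at ht
  exact (mul_eq_zero.1 (show (2 : F) * (Z : M2).trace = 0 by linear_combination -ht)).resolve_left h2

variable {g : GL (Fin 2) F}

/-- The torus of a fixed non-involution is fixed. -/
theorem cen_le_fixed {x : P2} (h2 : (2 : F) ≠ 0) (hx : linAut g x = x) (hxx : x * x ≠ 1) :
    ∀ y ∈ cen x, linAut g y = y := by
  obtain ⟨X, rfl⟩ := H86.PSLSizes.exists_lift (F := F) x
  have hns : ¬ IsScalarTwo (X : M2) := not_scalar_of_ne_one fun e => hxx (by rw [e, one_mul])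
  intro y hy
  obtain ⟨Y, rfl⟩ := H86.PSLSizes.exists_lift y
  obtain ⟨a, b, hY⟩ := (mem_centralizer_SL_two hns).1
    (show Y ∈ Subgroup.centralizer ({X} : Set (SLn 2 F)) from mem_cen_proj.1 hy)
  refine fixed_of_commute ?_
  rw [hY, mul_add, add_mul, Matrix.mul_smul, Matrix.mul_smul, Matrix.smul_mul, Matrix.smul_mul,
    mul_one, one_mul, commute_lift h2 hx hxx]

/-- Two fixed non-involutions share their torus. -/
theorem mem_cen_of_fixed {x : P2} (h2 : (2 : F) ≠ 0) (hg1 : linAut g ≠ (1 : MulAut (PSLn 2 F)))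
    (hx : linAut g x = x) (hxx : x * x ≠ 1) {z : P2} (hz : linAut g z = z) (hzz : z * z ≠ 1) :
    z ∈ cen x := by
  obtain ⟨X, rfl⟩ := H86.PSLSizes.exists_lift (F := F) x
  obtain ⟨Z, rfl⟩ := H86.PSLSizes.exists_lift z
  have hns : ¬ IsScalarTwo (X : M2) := not_scalar_of_ne_one fun e => hxx (by rw [e, one_mul])
  obtain ⟨α, β, hg⟩ := exists_of_commute hns (commute_lift h2 hx hxx)
  have hβ : β ≠ 0 := by
    rintro rfl
    rw [zero_smul, add_zero] at hg
    have hα : α ≠ 0 := by
      rintro rfl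
      rw [zero_smul] at hg
      exact g.det_ne_zero (by rw [hg, Matrix.det_zero])
    refine hg1 ?_
    rw [show g = Matrix.GeneralLinearGroup.scalar (Fin 2) (Units.mk0 α hα) from ?_,
      H5.EvenCyclic.linAut_scalar]
    apply Units.ext
    rw [Matrix.GeneralLinearGroup.coe_scalar, hg]
    ext i j
    fin_cases i <;> fin_cases j <;> simp
  refine mem_cen_proj.2 (Subgroup.mem_centralizer_singleton_iff.2 (Subtype.ext ?_))
  have hc := commute_lift h2 hz hzz
  rw [hg, mul_add, add_mul, Matrix.mul_smul, Matrix.mul_smul, Matrix.smul_mul, Matrix.smul_mul,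
    mul_one, one_mul, add_right_inj] at hc
  exact (smul_right_injective _ hβ hc).symm

/-- The fixed points normalise the torus. -/
theorem fixed_le_normalizer {x : P2} (h2 : (2 : F) ≠ 0) (hg1 : linAut g ≠ (1 : MulAut (PSLn 2 F)))
    (hx : linAut g x = x) (hxx : x * x ≠ 1) {y : P2} (hy : linAut g y = y) :
    y ∈ Subgroup.normalizer ((cen x : Subgroup P2) : Set P2) := by
  have hx1 : x ≠ 1 := fun e => hxx (by rw [e, one_mul])
  have h := mem_cen_of_fixed h2 hg1 hx hxx (z := y * x * y⁻¹)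
    (by rw [map_mul, map_mul, map_inv, hy, hx])
    (fun e => hxx (conj_eq_one_iff.1 (by rw [← conj_mul]; exact e)))
  have he := cen_eq_of_mem hx1 (fun e => hx1 (conj_eq_one_iff.1 e)) h
  rw [Subgroup.mem_normalizer_iff]
  intro v
  have h1 := mem_cen_conj y x v
  rw [he] at h1
  exact h1.symm

/-- A fixed involution does not centralise the torus. -/
theorem not_commute_of_outer {x : P2} (h2 : (2 : F) ≠ 0) (hg1 : linAut g ≠ (1 : MulAut (PSLn 2 F)))
    (hg2 : linAut g * linAut g = (1 : MulAut (PSLn 2 F)))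
    (hns : ¬ IsSquare (Matrix.GeneralLinearGroup.det g : F)) (hx : linAut g x = x) (hxx : x * x ≠ 1)
    {t : P2} (ht1 : t ≠ 1) (htt : t * t = 1) : ¬ Commute t x := by
  intro hc
  obtain ⟨X, rfl⟩ := H86.PSLSizes.exists_lift (F := F) x
  obtain ⟨A, rfl⟩ := H86.PSLSizes.exists_lift t
  obtain ⟨c, hc'⟩ := H62.GW.det_eq_sq_of_fixes h2 hxx ht1 htt hc hx hg1 hg2
  exact hns ⟨c, by rw [hc', Units.val_mul]⟩

end Cfsg.Agent.H91.GWCons
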