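import Cfsg.Agent.S2119
import Mathlib.GroupTheory.SpecificGroups.Alternating

/-!
Automorphisms of `S₄` and `A₅` fixing a dihedral subgroup; involutions of `S₇`.
-/

set_option autoImplicit false

namespace Cfsg.Agent.H91.GWCons

open Equiv

set_option maxRecDepth 20000 in
theorem perm_four_not_inverted : ∀ x w : Perm (Fin 4),
    x ^ 3 = 1 → x ≠ 1 → w ^ 4 = 1 → w * w * x * (w * w)⁻¹ = x⁻¹ → w * w = 1 := by
  decide +kernel

set_option maxRecDepth 20000 in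
theorem perm_four_squares : ∀ v w : Perm (Fin 4), v ^ 4 = 1 → w ^ 4 = 1 → v * v ≠ 1 → w * w ≠ 1 →
    v * v * (w * w) = w * w * (v * v) ∧
      (v * v = w * w ∨ ∃ u : Perm (Fin 4), u ^ 4 = 1 ∧ u * u ≠ 1 ∧ u * u = v * v * (w * w)) := by
  decide +kernel

theorem perm_four_pow : ∀ x : Perm (Fin 4), x ^ 3 = 1 ∨ x ^ 4 = 1 := by decide +kernel

set_option maxRecDepth 20000 in
theorem perm_five_centralizer : ∀ π x : Perm (Fin 5), x ^ 5 = 1 → x ≠ 1 → π * x = x * π →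
    ∃ i : Fin 5, π = x ^ (i : ℕ) := by
  decide +kernel

theorem alt_four_pow : ∀ x : alternatingGroup (Fin 4), x ^ 2 = 1 ∨ x ^ 3 = 1 := by decide +kernel

theorem alt_five_pow : ∀ x : alternatingGroup (Fin 5), x ^ 2 = 1 ∨ x ^ 3 = 1 ∨ x ^ 5 = 1 := by
  decide +kernel

/-- An automorphism of `A₅` fixing an element of order five and an element inverting it is trivial. -/
theorem alt_five_fixed (σ : MulAut (alternatingGroup (Fin 5))) {x t : alternatingGroup (Fin 5)}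
    (hx5 : x ^ 5 = 1) (hx : x ≠ 1) (ht : t * x * t⁻¹ = x⁻¹) (hσx : σ x = x) (hσt : σ t = t) :
    σ = 1 := by
  obtain ⟨π, rfl⟩ := (S2119.result 5 (by norm_num) (by norm_num)).2 σ
  have hc : ∀ y : alternatingGroup (Fin 5), MulAut.conjNormal π y = y →
      π * (y : Perm (Fin 5)) = y * π := fun y hy => by
    have h1 := congrArg Subtype.val hy
    rw [MulAut.conjNormal_apply] at h1
    exact mul_inv_eq_iff_eq_mul.1 h1
  have hx' : ((x : Perm (Fin 5))) ^ 5 = 1 := by rw [← Subgroup.coe_pow, hx5, Subgroup.coe_one]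
  obtain ⟨i, rfl⟩ := perm_five_centralizer π x hx' (fun e => hx (Subtype.ext e)) (hc x hσx)
  have h1 : (t : Perm (Fin 5)) * (x : Perm (Fin 5)) ^ (i : ℕ) * (t : Perm (Fin 5))⁻¹ =
      ((x : Perm (Fin 5)) ^ (i : ℕ))⁻¹ := by
    have h0 : (t : Perm (Fin 5)) * x * (t : Perm (Fin 5))⁻¹ = ((x : Perm (Fin 5)))⁻¹ := by
      have := congrArg Subtype.val ht
      simpa using this
    rw [← conj_pow, h0, inv_pow]
  rw [← hc t hσt, mul_inv_cancel_right] at h1
  have h2 : ((x : Perm (Fin 5)) ^ (i : ℕ)) ^ 2 = 1 := by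
    rw [sq]; nth_rw 2 [h1]; exact mul_inv_cancel _
  have h5 : ((x : Perm (Fin 5)) ^ (i : ℕ)) ^ 5 = 1 := by rw [← pow_mul, mul_comm, pow_mul, hx', one_pow]
  have h3 : (x : Perm (Fin 5)) ^ (i : ℕ) = 1 := by
    calc (x : Perm (Fin 5)) ^ (i : ℕ) = ((x : Perm (Fin 5)) ^ (i : ℕ)) ^ 5 *
          ((((x : Perm (Fin 5)) ^ (i : ℕ)) ^ 2) ^ 2)⁻¹ := by group
      _ = 1 := by rw [h5, h2, one_pow, inv_one, one_mul]
  rw [h3, map_one]

/-- Representatives of the involutions of `S₇`. -/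
theorem perm_seven_four : ∀ n : Fin 3, ∀ π : Perm (Fin 7),
    π = [Equiv.swap 0 1, Equiv.swap 0 1 * Equiv.swap 2 3,
      Equiv.swap 0 1 * Equiv.swap 2 3 * Equiv.swap 4 5].get (n.cast rfl) →
    ∃ v w : Perm (Fin 7), Perm.sign v = 1 ∧ Perm.sign w = 1 ∧ π * v = v * π ∧ π * w = w * π ∧
      v * v = 1 ∧ w * w = 1 ∧ v * w = w * v ∧ v ≠ 1 ∧ w ≠ 1 ∧ v ≠ w := by
  intro n π hπ
  fin_cases n <;> subst hπ
  · exact ⟨Equiv.swap 2 3 * Equiv.swap 4 5, Equiv.swap 2 4 * Equiv.swap 3 5,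
      by decide +kernel⟩
  · exact ⟨Equiv.swap 0 1 * Equiv.swap 2 3, Equiv.swap 0 2 * Equiv.swap 1 3, by decide +kernel⟩
  · exact ⟨Equiv.swap 0 1 * Equiv.swap 2 3, Equiv.swap 0 1 * Equiv.swap 4 5, by decide +kernel⟩

/-- An involution of `S₇` centralises a four-group of `A₇`. -/
theorem perm_seven_involution {π : Perm (Fin 7)} (hπ : orderOf π = 2) :
    ∃ v w : Perm (Fin 7), Perm.sign v = 1 ∧ Perm.sign w = 1 ∧ π * v = v * π ∧ π * w = w * π ∧
      v * v = 1 ∧ w * w = 1 ∧ v * w = w * v ∧ v ≠ 1 ∧ w ≠ 1 ∧ v ≠ w := by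
  classical
  obtain ⟨n, hn⟩ := Perm.cycleType_prime_order (by rw [hπ]; exact Nat.prime_two : (orderOf π).Prime)
  rw [hπ] at hn
  have hn3 : n < 3 := by
    have h1 := Perm.sum_cycleType π
    rw [hn, Multiset.sum_replicate, smul_eq_mul] at h1
    have h2 : π.support.card ≤ 7 := by
      simpa using Finset.card_le_univ π.support
    omega
  have hrep : ∀ k : Fin 3, ([Equiv.swap 0 1, Equiv.swap 0 1 * Equiv.swap 2 3,
      Equiv.swap 0 1 * Equiv.swap 2 3 * Equiv.swap 4 5].get (k.cast rfl) : Perm (Fin 7)).cycleType =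
        Multiset.replicate ((k : ℕ) + 1) 2 := by
    decide +kernel
  obtain ⟨r, hr⟩ := isConj_iff.1 ((Perm.isConj_iff_cycleType_eq).2
    ((hrep ⟨n, hn3⟩).trans hn.symm))
  obtain ⟨v, w, h1, h2, h3, h4, h5, h6, h7, h8, h9, h10⟩ := perm_seven_four ⟨n, hn3⟩ _ rfl
  set φ := MulAut.conj r with hφ
  refine ⟨φ v, φ w, ?_, ?_, ?_, ?_, ?_, ?_, ?_, fun e => h8 (φ.injective (e.trans (map_one φ).symm)),
    fun e => h9 (φ.injective (e.trans (map_one φ).symm)), fun e => h10 (φ.injective e)⟩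
  · simp [hφ, map_mul, h1]
  · simp [hφ, map_mul, h2]
  · rw [← hr, ← MulAut.conj_apply, ← hφ, ← map_mul, ← map_mul, h3]
  · rw [← hr, ← MulAut.conj_apply, ← hφ, ← map_mul, ← map_mul, h4]
  · rw [← map_mul, h5, map_one]
  · rw [← map_mul, h6, map_one]
  · rw [← map_mul, ← map_mul, h7]

end Cfsg.Agent.H91.GWCons
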