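import Cfsg.Agent.H91.GWCons.OuterFixed
import Cfsg.Agent.H91.GWCons.FieldAut
import Cfsg.Agent.H91.GWCons.SmallAut
import Cfsg.Agent.Linear.Dickson.Solubilizer

/-!
Two commuting outer involutory automorphisms of `PSL₂(q)`: their fixed points generate the group.
-/

set_option autoImplicit false
set_option linter.unusedSectionVars false
set_option linter.style.haveILetI false

namespace Cfsg.Agent.H91.GWCons

open Matrix Cfsg.Agent Cfsg.Agent.Linear Cfsg.Agent.Linear.Dickson Cfsg.Agent.H55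
open Cfsg.Agent.H56 (PSLn SLn toP)
open Cfsg.Agent.H5.EvenCyclic (linAut)

variable {F : Type} [Field F] [Fintype F]

local notation "M2" => Matrix (Fin 2) (Fin 2) F
local notation "P2" => Matrix.ProjectiveSpecialLinearGroup (Fin 2) F

/-- A square determinant gives an inner automorphism. -/
theorem exists_conj_of_det_sq {g : GL (Fin 2) F} {c : Fˣ}
    (hc : Matrix.GeneralLinearGroup.det g = c * c) : ∃ y : PSLn 2 F, linAut g = MulAut.conj y := by
  set d := g * Matrix.GeneralLinearGroup.scalar (Fin 2) c⁻¹ with hd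
  have hdet : Matrix.GeneralLinearGroup.det d = 1 := by
    have hsc : Matrix.GeneralLinearGroup.det (Matrix.GeneralLinearGroup.scalar (Fin 2) c⁻¹) =
        c⁻¹ * c⁻¹ := by
      apply Units.ext
      rw [Matrix.GeneralLinearGroup.val_det_apply, Matrix.GeneralLinearGroup.coe_scalar]
      simp [pow_two]
    rw [hd, map_mul, hc, hsc, ← _root_.mul_inv_rev, mul_inv_cancel]
  let s : SLn 2 F := ⟨(d : Matrix (Fin 2) (Fin 2) F), by
    rw [← Matrix.GeneralLinearGroup.val_det_apply, hdet, Units.val_one]⟩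
  refine ⟨toP s, ?_⟩
  rw [← H5.EvenCyclic.linAut_toGL, show Matrix.SpecialLinearGroup.toGL s = d from Units.ext rfl,
    hd, map_mul, H5.EvenCyclic.linAut_scalar, mul_one]

/-- A fixed non-involution of an outer involution is semisimple. -/
theorem not_isUni_of_fixed (h2 : (2 : F) ≠ 0) {g : GL (Fin 2) F}
    (hg1 : linAut g ≠ (1 : MulAut (PSLn 2 F)))
    (hg2 : linAut g * linAut g = (1 : MulAut (PSLn 2 F))) {x : P2} (hx : linAut g x = x)
    (hxx : x * x ≠ 1) : ¬ IsUni x := by
  obtain ⟨X, rfl⟩ := H86.PSLSizes.exists_lift (F := F) x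
  intro hu
  have hτ : (X : M2).trace ^ 2 = 4 := isUni_proj.1 hu
  have hns : ¬ IsScalarTwo (X : M2) := not_scalar_of_ne_one fun e => hxx (by rw [e, one_mul])
  obtain ⟨a, b, hg⟩ := exists_of_commute hns (commute_lift h2 hx hxx)
  obtain ⟨c, hc, hsq⟩ := GW.trace_eq_zero_of_linAut hg1 hg2
  have hb : b ≠ 0 := by
    rintro rfl
    rw [zero_smul, add_zero] at hg
    have ha : a ≠ 0 := by
      rintro rfl
      rw [zero_smul] at hg
      exact g.det_ne_zero (by rw [hg, Matrix.det_zero])
    refine hg1 ?_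
    rw [show g = Matrix.GeneralLinearGroup.scalar (Fin 2) (Units.mk0 a ha) from ?_,
      H5.EvenCyclic.linAut_scalar]
    apply Units.ext
    rw [Matrix.GeneralLinearGroup.coe_scalar, hg]
    ext i j
    fin_cases i <;> fin_cases j <;> simp
  have e : (a * a - b * b) • (1 : M2) + (b * (2 * a + b * (X : M2).trace)) • (X : M2) =
      c • (1 : M2) + (0 : F) • (X : M2) := by
    rw [zero_smul, add_zero, ← hsq, hg]
    simp only [add_mul, mul_add, Matrix.smul_mul, Matrix.mul_smul, one_mul, mul_one, SL_sq_eq,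
      smul_smul, smul_sub, sub_smul, add_smul, two_mul]
    rw [mul_comm a b, ← mul_assoc b b]
    abel
  have h0 : 2 * a + b * (X : M2).trace = 0 :=
    (mul_eq_zero.1 (smul_add_smul_injective hns e).2).resolve_left hb
  have hdet := g.det_ne_zero
  rw [hg, Matrix.det_fin_two] at hdet
  have hX := SL_det_two X
  simp only [Matrix.trace_fin_two] at h0 hτ
  refine hdet ?_
  simp
  apply mul_left_cancel₀ h2
  apply mul_left_cancel₀ h2
  linear_combination (2 * a + b * ((X : M2) 0 0 + (X : M2) 1 1)) * h0 - b * b * hτ + 4 * b * b * hX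

/-- A proper invariant overgroup of the fixed points lies in the torus normaliser. -/
theorem le_normalizer_of_invariant (hodd : Odd (Fintype.card F)) {g : GL (Fin 2) F}
    (hg1 : linAut g ≠ (1 : MulAut (PSLn 2 F)))
    (hg2 : linAut g * linAut g = (1 : MulAut (PSLn 2 F)))
    (hns : ¬ IsSquare (Matrix.GeneralLinearGroup.det g : F)) {x : P2} (hx : linAut g x = x)
    (hxx : x * x ≠ 1) {t : P2} (ht1 : t ≠ 1) (htt : t * t = 1) (ht : linAut g t = t)
    {H : Subgroup P2} (hH : H ≠ ⊤) (hinv : ∀ y ∈ H, linAut g y ∈ H)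
    (hfix : ∀ y, linAut g y = y → y ∈ H) :
    H ≤ Subgroup.normalizer ((cen x : Subgroup P2) : Set P2) := by
  classical
  obtain ⟨p, hchar⟩ := CharP.exists F
  haveI : Fact p.Prime := ⟨CharP.char_is_prime F p⟩
  have h2 := H4.GW.two_ne hodd
  have hu := not_isUni_of_fixed h2 hg1 hg2 hx hxx
  set N := Subgroup.normalizer ((cen x : Subgroup P2) : Set P2) with hN
  have hfixN : ∀ y, linAut g y = y → y ∈ N := fun y hy => fixed_le_normalizer h2 hg1 hx hxx hy
  have hnc : ∀ {v : P2}, v ≠ 1 → v * v = 1 → ¬ Commute v x := fun hv1 hv2 =>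
    not_commute_of_outer h2 hg1 hg2 hns hx hxx hv1 hv2
  haveI hcyc := isCyclic_cen hu
  obtain ⟨a0, ha0⟩ := IsCyclic.exists_generator (α := cen x)
  set a : P2 := (a0 : P2) with hadef
  set k := Nat.card (cen x) with hk
  have hacen : a ∈ cen x := a0.2
  have hord : orderOf a = k := by
    rw [hadef, Subgroup.orderOf_coe, orderOf_eq_card_of_forall_mem_zpowers ha0]
  have hx1 : x ≠ 1 := fun e => hxx (by rw [e, one_mul])
  have hcomm : ∀ y ∈ cen x, ∀ z ∈ cen x, Commute y z := fun y hy z hz => by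
    obtain ⟨i, hi⟩ := Subgroup.mem_zpowers_iff.1 (ha0 ⟨y, hy⟩)
    obtain ⟨j, hj⟩ := Subgroup.mem_zpowers_iff.1 (ha0 ⟨z, hz⟩)
    rw [← show ((a0 ^ i : cen x) : P2) = y from congrArg Subtype.val hi,
      ← show ((a0 ^ j : cen x) : P2) = z from congrArg Subtype.val hj, Subgroup.coe_zpow,
      Subgroup.coe_zpow]
    exact (Commute.refl _).zpow_zpow i j
  have hkodd : Odd k := by
    refine Nat.not_even_iff_odd.1 fun he => ?_
    obtain ⟨v, hv⟩ := exists_prime_orderOf_dvd_card' (G := cen x) 2 he.two_dvd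
    have hvo : orderOf (v : P2) = 2 := by rw [Subgroup.orderOf_coe, hv]
    exact hnc (H39.ne_one_of_orderOf_eq_two hvo) (H39.mul_self_of_orderOf_eq_two hvo)
      (hcomm _ v.2 _ (mem_cen_self x))
  have hk3 : 3 ≤ k := by
    have hd := Subgroup.orderOf_dvd_natCard (cen x) (mem_cen_self x)
    have h1 : 0 < orderOf x := orderOf_pos x
    have h4 : orderOf x ≠ 1 := fun e => hx1 (orderOf_eq_one_iff.1 e)
    have h5 : orderOf x ≠ 2 := fun e => hxx (H39.mul_self_of_orderOf_eq_two e)
    have := Nat.le_of_dvd Nat.card_pos hd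
    omega
  have ha1 : a ≠ 1 := fun e => by rw [e, orderOf_one] at hord; omega
  have ha2 : a * a ≠ 1 := fun e => by
    have := Nat.le_of_dvd two_pos (hord ▸ orderOf_dvd_of_pow_eq_one (by rw [sq]; exact e))
    omega
  have htN : t ∈ N := hfixN t ht
  obtain ⟨-, hti⟩ := (normalizer_cases hu (Subgroup.mem_normalizer_iff.1 htN)).resolve_left
    fun h => hnc ht1 htt (hcomm _ h _ (mem_cen_self x))
  have hta : t * a * t⁻¹ = a⁻¹ := hti a hacen
  have haH : a ∈ H := hfix a (cen_le_fixed h2 hx hxx a hacen)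
  have htH : t ∈ H := hfix t ht
  -- `|F|` and `k`
  have hq : 2 * k = Fintype.card F - 1 ∨ 2 * k = Fintype.card F + 1 := by
    obtain ⟨m, hm⟩ := hodd
    have hgcd : Nat.gcd 2 (Fintype.card F - 1) = 2 := Nat.gcd_eq_left (by omega)
    rcases card_cen_cases hu with e | e <;> rw [hgcd] at e <;> omega
  rcases shape p H with h | h | ⟨⟨f⟩⟩ | ⟨⟨f⟩⟩ | ⟨⟨f⟩⟩ | h
  · exfalso
    obtain ⟨r, hr⟩ := h
    obtain ⟨χ, hχ⟩ := exists_diagonal_hom (F := F)
    have hm : r * (a⁻¹ * a⁻¹) * r⁻¹ ∈ cen (stdUni : P2) := by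
      refine (hχ ⟨_, hr _ (H.mul_mem (H.inv_mem haH) (H.inv_mem haH))⟩).mp ?_
      have e : (⟨_, hr _ (H.mul_mem (H.inv_mem haH) (H.inv_mem haH))⟩ : borel F) =
          ⟨_, hr _ htH⟩ * ⟨_, hr _ haH⟩ * (⟨_, hr _ htH⟩ : borel F)⁻¹ * (⟨_, hr _ haH⟩ : borel F)⁻¹ := by
        refine Subtype.ext ?_
        show r * (a⁻¹ * a⁻¹) * r⁻¹ = r * t * r⁻¹ * (r * a * r⁻¹) * (r * t * r⁻¹)⁻¹ * (r * a * r⁻¹)⁻¹
        calc r * (a⁻¹ * a⁻¹) * r⁻¹ = r * ((t * a * t⁻¹) * a⁻¹) * r⁻¹ := by rw [hta]
          _ = _ := by group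
      rw [e, map_mul, map_mul, map_mul, map_inv, map_inv, mul_comm (χ _) (χ _), mul_inv_cancel_right,
        mul_inv_cancel]
    have hu' := (isUni_conj r).mp (isUni_of_mem_cen_stdUni hm)
    have hne : a⁻¹ * a⁻¹ ≠ 1 := by rw [← _root_.mul_inv_rev]; exact inv_ne_one.mpr ha2
    exact hu ((isUni_iff_of_mem_cen hx1 hne ((cen x).mul_mem ((cen x).inv_mem hacen)
      ((cen x).inv_mem hacen))).mp hu')
  · obtain ⟨b, hb, hHb⟩ := h
    rcases normalizer_cases hb (Subgroup.mem_normalizer_iff.mp (hHb haH)) with h | ⟨h, -⟩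
    · have e1 := cen_eq_of_mem (ne_one_of_not_isUni hb) ha1 h
      have e2 := cen_eq_of_mem hx1 ha1 hacen
      rw [← e1, e2] at hHb
      exact hHb
    · exact absurd h ha2
  · exfalso
    have ha3 : a ^ 3 = 1 := by
      rcases alt_four_pow (f ⟨a, haH⟩) with e | e <;> rw [← map_pow, ← map_one f] at e <;>
        have e' : a ^ _ = 1 := congrArg Subtype.val (f.injective e)
      · exact absurd (by rwa [sq] at e') ha2
      · exact e'
    refine Linear.Dickson.alt_four_no_dihedral (f ⟨a, haH⟩) (f ⟨t, htH⟩) ?_ ?_ ?_ ?_ ?_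
    · exact fun e => ha1 (congrArg Subtype.val (f.injective (e.trans (map_one f).symm)))
    · rw [← map_pow, ← map_one f]; exact congrArg f (Subtype.ext ha3)
    · exact fun e => ht1 (congrArg Subtype.val (f.injective (e.trans (map_one f).symm)))
    · rw [← map_mul, ← map_one f]; exact congrArg f (Subtype.ext htt)
    · rw [← map_inv, ← map_inv, ← map_mul, ← map_mul]; exact congrArg f (Subtype.ext hta)
  · exfalso
    have ha3 : a ^ 3 = 1 := by
      rcases perm_four_pow (f ⟨a, haH⟩) with e | e <;> rw [← map_pow, ← map_one f] at e <;>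
        have e' : a ^ _ = 1 := congrArg Subtype.val (f.injective e)
      · exact e'
      · exfalso
        have h4 := orderOf_dvd_of_pow_eq_one e'
        rw [hord] at h4
        have h1 : k ∣ 1 := by
          refine (Nat.Coprime.dvd_of_dvd_mul_left ?_ (show k ∣ 4 * 1 by rwa [mul_one]))
          exact (Nat.coprime_two_right.2 hkodd).pow_right 2
        rw [Nat.dvd_one] at h1
        omega
    -- an element of order four with fixed square
    obtain ⟨w, hw⟩ : ∃ w : Equiv.Perm (Fin 4), w ^ 4 = 1 ∧ w * w ≠ 1 :=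
      ⟨finRotate 4, by decide +kernel⟩
    set e : H ≃* Equiv.Perm (Fin 4) := f with he
    have hσ : ∀ y : H, linAut g (y : P2) ∈ H := fun y => hinv _ y.2
    set σ : H → H := fun y => ⟨linAut g (y : P2), hσ y⟩ with hσdef
    have hσmul : ∀ y z, σ (y * z) = σ y * σ z := fun y z => Subtype.ext (map_mul (linAut g) _ _)
    have hσσ : ∀ y, σ (σ y) = y := fun y => Subtype.ext (DFunLike.congr_fun hg2 (y : P2))
    have hσone : σ 1 = 1 := Subtype.ext (map_one (linAut g))
    set y := e.symm w with hy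
    have hy4 : y ^ 4 = 1 := by rw [hy, ← map_pow, hw.1, map_one]
    have hy2 : y * y ≠ 1 := fun e1 => hw.2 (by
      rw [← e.apply_symm_apply (w * w), map_mul, e1, map_one])
    have hσpow : ∀ (z : H) (n : ℕ), σ (z ^ n) = σ z ^ n := fun z n => by
      induction n with
      | zero => simp [hσone]
      | succ m ih => rw [pow_succ, pow_succ, hσmul, ih]
    have hz4 : σ y ^ 4 = 1 := by rw [← hσpow, hy4, hσone]
    have hz2 : σ y * σ y ≠ 1 := fun e1 => hy2 (by
      rw [← hσσ (y * y), hσmul, e1, hσone])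
    obtain ⟨hc, hor⟩ := perm_four_squares (e y) (e (σ y)) (by rw [← map_pow, hy4, map_one])
      (by rw [← map_pow, hz4, map_one]) (fun e1 => hy2 (e.injective (by rw [map_mul, e1, map_one])))
      (fun e1 => hz2 (e.injective (by rw [map_mul, e1, map_one])))
    have hc' : y * y * (σ y * σ y) = σ y * σ y * (y * y) := e.injective (by simpa using hc)
    obtain ⟨u, hu4, hu2, hfu⟩ : ∃ u : H, u ^ 4 = 1 ∧ u * u ≠ 1 ∧ σ (u * u) = u * u := by
      rcases hor with e1 | ⟨u, hu4, hu2, hu⟩
      · refine ⟨y, hy4, hy2, ?_⟩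
        rw [hσmul]
        exact (e.injective (by simpa using e1)).symm
      · refine ⟨e.symm u, by rw [← map_pow, hu4, map_one], fun e1 => hu2 (by
          rw [← e.apply_symm_apply (u * u), map_mul, e1, map_one]), ?_⟩
        have h1 : e.symm u * e.symm u = y * y * (σ y * σ y) := e.injective (by simpa using hu)
        rw [h1, hσmul, hσmul, hσmul, hσσ, hc']
    have hvfix : linAut g ((u * u : H) : P2) = ((u * u : H) : P2) := congrArg Subtype.val hfu
    have hvN := hfixN _ hvfix
    have hv1 : ((u * u : H) : P2) ≠ 1 := fun e1 => hu2 (Subtype.ext e1)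
    have hv2 : ((u * u : H) : P2) * ((u * u : H) : P2) = 1 := by
      rw [← Subgroup.coe_mul, show u * u * (u * u) = u ^ 4 by simp [pow_succ, mul_assoc], hu4,
        Subgroup.coe_one]
    obtain ⟨-, hvi⟩ := (normalizer_cases hu (Subgroup.mem_normalizer_iff.1 hvN)).resolve_left
      fun h => hnc hv1 hv2 (hcomm _ h _ (mem_cen_self x))
    have h3 : (u * u : H) * ⟨a, haH⟩ * (u * u : H)⁻¹ = (⟨a, haH⟩ : H)⁻¹ := Subtype.ext (hvi a hacen)
    refine hu2 (e.injective ?_)
    rw [map_mul, map_one]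
    refine perm_four_not_inverted (e ⟨a, haH⟩) (e u) ?_
      (fun e1 => ha1 (congrArg Subtype.val (e.injective (e1.trans (map_one e).symm))))
      (by rw [← map_pow, hu4, map_one]) ?_
    · rw [← map_pow, ← map_one e]; exact congrArg e (Subtype.ext ha3)
    · have := congrArg e h3
      simpa [map_mul, map_inv, mul_assoc] using this
  · have ha5 : a ^ 5 = 1 := by
      rcases alt_five_pow (f ⟨a, haH⟩) with e | e | e <;> rw [← map_pow, ← map_one f] at e <;>
        have e' : a ^ _ = 1 := congrArg Subtype.val (f.injective e)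
      · exact absurd (by rwa [sq] at e') ha2
      · exfalso
        have h3 := Nat.le_of_dvd (by norm_num) (hord ▸ orderOf_dvd_of_pow_eq_one e')
        have hc : Nat.card H = 60 := (Nat.card_congr f.toEquiv).trans card_alt_five
        have hG := card_PSL_two_mul (F := F)
        have hdvd := hc ▸ H.card_subgroup_dvd_card
        have hne : Nat.card P2 ≠ 60 := fun e => hH (Subgroup.eq_top_of_card_eq _ (hc.trans e.symm))
        have hq' : Fintype.card F = 5 ∨ Fintype.card F = 7 := by omega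
        generalize Nat.card P2 = n at hG hdvd hne
        rcases hq' with e1 | e1 <;> rw [e1] at hG <;> norm_num at hG
        · omega
        · obtain ⟨j, hj⟩ := hdvd
          omega
      · exact e'
    let σ : MulAut H :=
      { toFun := fun y => ⟨linAut g (y : P2), hinv _ y.2⟩
        invFun := fun y => ⟨linAut g (y : P2), hinv _ y.2⟩
        left_inv := fun y => Subtype.ext (DFunLike.congr_fun hg2 (y : P2))
        right_inv := fun y => Subtype.ext (DFunLike.congr_fun hg2 (y : P2))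
        map_mul' := fun y z => Subtype.ext (map_mul (linAut g) _ _) }
    have hσa : σ ⟨a, haH⟩ = ⟨a, haH⟩ := Subtype.ext (cen_le_fixed h2 hx hxx a hacen)
    have hσt : σ ⟨t, htH⟩ = ⟨t, htH⟩ := Subtype.ext ht
    have h1 := alt_five_fixed ((MulAut.congr f) σ) (x := f ⟨a, haH⟩) (t := f ⟨t, htH⟩)
      (by rw [← map_pow, ← map_one f]; exact congrArg f (Subtype.ext ha5))
      (fun e => ha1 (congrArg Subtype.val (f.injective (e.trans (map_one f).symm))))
      (by rw [← map_inv, ← map_inv, ← map_mul, ← map_mul]; exact congrArg f (Subtype.ext hta))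
      (by show f (σ (f.symm (f _))) = _; rw [f.symm_apply_apply, hσa])
      (by show f (σ (f.symm (f _))) = _; rw [f.symm_apply_apply, hσt])
    intro y hy
    have h3 : σ = 1 := (MulAut.congr f).injective (h1.trans (map_one _).symm)
    exact hfixN y (congrArg Subtype.val (DFunLike.congr_fun h3 ⟨y, hy⟩))
  · exfalso
    obtain ⟨v, m, hv, hm, hvm, -, hordle⟩ := h.eq_top_or_orderOf_le.resolve_left hH
    have hk' : k ≤ v + 1 := hord ▸ hordle a haH
    have hv2 : v ^ 2 ≤ Fintype.card F := (Nat.pow_le_pow_right (by omega) hm).trans hvm.le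
    have hv3 : v ≤ 3 := by
      by_contra h
      have : 4 * v ≤ v ^ 2 := by rw [sq]; exact Nat.mul_le_mul_right v (by omega)
      omega
    obtain rfl | rfl : v = 2 ∨ v = 3 := by omega
    · rw [← hvm] at hodd
      exact Nat.not_even_iff_odd.2 hodd (Nat.even_pow.2 ⟨even_two, by omega⟩)
    · have h9 : 9 ≤ Fintype.card F := le_trans (by norm_num) hv2
      obtain ⟨j, hj⟩ := hkodd
      omega

/-- **The pair lemma.** -/
theorem pair_psl (hodd : Odd (Fintype.card F)) (h3 : 3 < Fintype.card F) {α β : MulAut (PSLn 2 F)}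
    (hαα : α * α = 1) (hββ : β * β = 1) (hab : α * β = β * α) (hne : α ≠ β)
    (hα : NoFour α) (hβ : NoFour β) (hαi : ∀ y, α ≠ MulAut.conj y) (hβi : ∀ y, β ≠ MulAut.conj y)
    {H : Subgroup (PSLn 2 F)} (hH : H ≠ ⊤) (hfα : ∀ y, α y = y → y ∈ H)
    (hfβ : ∀ y, β y = y → y ∈ H) : False := by
  have h2 := H4.GW.two_ne hodd
  have key : ∀ γ : MulAut (PSLn 2 F), γ * γ = 1 → NoFour γ → (∀ y, γ ≠ MulAut.conj y) →
      ∃ g : GL (Fin 2) F, γ = linAut g ∧ linAut g ≠ (1 : MulAut (PSLn 2 F)) ∧
        linAut g * linAut g = (1 : MulAut (PSLn 2 F)) ∧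
        ¬ IsSquare (Matrix.GeneralLinearGroup.det g : F) := by
    intro γ h1 h4 h5
    obtain ⟨g, rfl⟩ := exists_linAut hodd h1 h4
    refine ⟨g, rfl, fun e => h5 1 (e.trans (map_one _).symm), h1, fun hs => ?_⟩
    obtain ⟨c, hc⟩ := H5.EvenCyclic.exists_sq_iff.1 hs
    obtain ⟨y, hy⟩ := exists_conj_of_det_sq hc
    exact h5 y hy
  obtain ⟨g, rfl, hg1, hg2, hgs⟩ := key α hαα hα hαi
  obtain ⟨g', rfl, hg1', hg2', hgs'⟩ := key β hββ hβ hβi
  obtain ⟨x, hx, hxx⟩ := GW.exists_fixed_psl hodd h3 hg1 hg2 hgs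
  obtain ⟨z, hz, hzz⟩ := GW.exists_fixed_psl hodd h3 hg1' hg2' hgs'
  obtain ⟨c, hc⟩ := H5.EvenCyclic.exists_sq_of_not_sq hodd
    (a := Matrix.GeneralLinearGroup.det g) (b := Matrix.GeneralLinearGroup.det g') hgs hgs'
  obtain ⟨t, ht⟩ := exists_conj_of_det_sq (g := g * g') (c := c) (by rw [map_mul, hc])
  rw [map_mul] at ht
  -- the centre is trivial
  have hu := not_isUni_of_fixed h2 hg1 hg2 hx hxx
  obtain ⟨w, -, -, -, hwi⟩ := exists_torus_inverter hu
  have hconj : ∀ y y' : PSLn 2 F, MulAut.conj y = MulAut.conj y' → y = y' := by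
    intro y y' e
    haveI : IsSimpleGroup (PSLn 2 F) :=
      Matrix.ProjectiveSpecialLinearGroup.rank_two_simple (by rw [Nat.card_eq_fintype_card]; omega)
    have hm : y'⁻¹ * y ∈ Subgroup.center (PSLn 2 F) := Subgroup.mem_center_iff.2 fun v => by
      have h1 : y * v * y⁻¹ = y' * v * y'⁻¹ := DFunLike.congr_fun e v
      calc v * (y'⁻¹ * y) = y'⁻¹ * (y' * v * y'⁻¹) * y := by group
        _ = y'⁻¹ * (y * v * y⁻¹) * y := by rw [h1]
        _ = y'⁻¹ * y * v := by group
    rcases IsSimpleGroup.eq_bot_or_eq_top_of_normal (Subgroup.center (PSLn 2 F)) inferInstance with h | h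
    · rw [h, Subgroup.mem_bot, inv_mul_eq_one] at hm
      exact hm.symm
    · refine absurd ?_ hxx
      have h1 := hwi x (mem_cen_self x)
      rw [Subgroup.mem_center_iff.1 (h ▸ Subgroup.mem_top x) w, mul_inv_cancel_right] at h1
      nth_rw 2 [h1]
      exact mul_inv_cancel x
  have htt : t * t = 1 := hconj _ _ (by
    rw [map_mul, map_one, ← ht, mul_assoc, ← mul_assoc (linAut g'), ← hab, mul_assoc, ← mul_assoc,
      hg2, one_mul, hg2'])
  have ht1 : t ≠ 1 := fun e => hne (by
    rw [e, map_one] at ht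
    calc linAut g = linAut g * (linAut g' * linAut g') := by rw [hg2', mul_one]
      _ = _ := by rw [← mul_assoc, ht, one_mul])
  have hfix : linAut g t = t := hconj _ _ (by
    have h1 : MulAut.conj (linAut g t) = linAut g * MulAut.conj t * (linAut g)⁻¹ := by
      ext v
      simp [MulAut.mul_apply, MulAut.conj_apply, map_mul, map_inv]
    rw [h1, ← ht, inv_eq_of_mul_eq_one_right hg2, mul_assoc, mul_assoc, ← mul_assoc, hg2, one_mul, hab])
  set H0 : Subgroup (PSLn 2 F) := Subgroup.closure ({y | linAut g y = y} ∪ {y | linAut g' y = y})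
  have hH0 : H0 ≤ H := (Subgroup.closure_le _).2 (by rintro y (hy | hy); exacts [hfα y hy, hfβ y hy])
  have hinv : ∀ y ∈ H0, linAut g y ∈ H0 := by
    intro y hy
    induction hy using Subgroup.closure_induction with
    | mem y hy =>
      refine Subgroup.subset_closure ?_
      rcases hy with hy | hy
      · exact Or.inl (congrArg (linAut g) hy)
      · refine Or.inr ?_
        show linAut g' (linAut g y) = linAut g y
        rw [← MulAut.mul_apply, ← hab, MulAut.mul_apply, show linAut g' y = y from hy]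
    | one => rw [map_one]; exact one_mem _
    | mul y z _ _ h1 h2 => rw [map_mul]; exact mul_mem h1 h2
    | inv y _ h1 => rw [map_inv]; exact inv_mem h1
  have hle := le_normalizer_of_invariant hodd hg1 hg2 hgs hx hxx ht1 htt hfix
    (fun e => hH (top_le_iff.1 (e ▸ hH0))) hinv (fun y hy => Subgroup.subset_closure (Or.inl hy))
  have hzc : z ∈ cen x := mem_cen_of_normalizer hu (hle (Subgroup.subset_closure (Or.inr hz))) hzz
  have hz' := cen_le_fixed h2 hx hxx z hzc
  have htz : MulAut.conj t z = z := by rw [← ht, MulAut.mul_apply, hz, hz']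
  exact not_commute_of_outer h2 hg1' hg2' hgs' hz hzz ht1 htt (mul_inv_eq_iff_eq_mul.1 htz)

end Cfsg.Agent.H91.GWCons
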