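import Cfsg.Agent.H91.GWCons.OuterPair
import Cfsg.Agent.H91.GWCons.MinimalCentralizer

/-!
Two commuting involutions with small centralisers in a simple group with dihedral Sylow 2-subgroups:
their product centralises the group.
-/

set_option autoImplicit false
set_option linter.unusedSectionVars false
set_option linter.style.haveILetI false

namespace Cfsg.Agent.H91.GWCons

open Subgroup

universe u

variable {L : Type u} [Group L] [Finite L] {S : Sylow 2 L} {l : ℕ} {c s : L}

/-- Every involution lies in a four group. -/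
theorem exists_commuting_involution (hd : H39.DGen (S : Subgroup L) l c s) {v : L}
    (hv : orderOf v = 2) : ∃ w : L, w * w = 1 ∧ w ≠ 1 ∧ w ≠ v ∧ Commute v w := by
  haveI : Fact (Nat.Prime 2) := ⟨Nat.prime_two⟩
  have hvp : IsPGroup 2 (zpowers v) :=
    IsPGroup.of_card (n := 1) (by rw [Nat.card_zpowers, hv, pow_one])
  obtain ⟨x, hx⟩ := H39.exists_conj_le_sylow hvp S
  have hS := hx v (mem_zpowers v)
  suffices h : ∃ w : L, w * w = 1 ∧ w ≠ 1 ∧ w ≠ x * v * x⁻¹ ∧ Commute (x * v * x⁻¹) w by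
    obtain ⟨w, h1, h2, h3, h4⟩ := h
    refine ⟨x⁻¹ * w * x, ?_, fun e => h2 ?_, fun e => h3 ?_, ?_⟩
    · rw [show x⁻¹ * w * x * (x⁻¹ * w * x) = x⁻¹ * (w * w) * x by group, h1, mul_one, inv_mul_cancel]
    · rw [show w = x * (x⁻¹ * w * x) * x⁻¹ by group, e, mul_one, mul_inv_cancel]
    · rw [show w = x * (x⁻¹ * w * x) * x⁻¹ by group, e]
    · have := (Commute.conj_iff x⁻¹).2 h4
      simpa [mul_assoc] using this
  have hvo : orderOf (x * v * x⁻¹) = 2 := by rw [H39.orderOf_conj, hv]
  have hzs : c ^ l ≠ s := fun e => hd.out (e ▸ Subgroup.pow_mem _ (mem_zpowers c) l)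
  by_cases hc : x * v * x⁻¹ = c ^ l
  · exact ⟨s, H39.mul_self_of_orderOf_eq_two hd.os, H39.ne_one_of_orderOf_eq_two hd.os,
      fun e => hzs (hc ▸ e).symm, hc ▸ (hd.z_central hd.mem_s).symm⟩
  · exact ⟨c ^ l, H39.mul_self_of_orderOf_eq_two hd.z_order, H39.ne_one_of_orderOf_eq_two hd.z_order,
      fun e => hc e.symm, hd.z_central hS⟩

/-- The product centralises the simple group. -/
theorem product_centralizes (hGW : H91.RankOneSE.PerfectDihedral.{u}) {G : Type u} [Group G] [Finite G]
    (L : Subgroup G) (hL : IsSimpleGroup L) (hLn : ¬ IsMulCommutative L)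
    (hD : ∀ P : Sylow 2 L, ∃ n : ℕ, Nonempty (↥(P : Subgroup L) ≃* DihedralGroup n))
    (a b : G) (ha : orderOf a = 2) (hb : orderOf b = 2) (hc : a * b = b * a)
    (haL : a ∈ Subgroup.normalizer (L : Set G)) (hbL : b ∈ Subgroup.normalizer (L : Set G))
    (hCa : ∀ R : Sylow 2 ↥(L ⊓ Subgroup.centralizer ({a} : Set G)), IsCyclic R)
    (hCb : ∀ R : Sylow 2 ↥(L ⊓ Subgroup.centralizer ({b} : Set G)), IsCyclic R)
    (hgen : ¬ L ≤ Subgroup.closure ({a, b} : Set G) ⊔ (L ⊓ Subgroup.centralizer ({a} : Set G)) ⊔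
      (L ⊓ Subgroup.centralizer ({b} : Set G))) :
    a * b ∈ Subgroup.centralizer (L : Set G) := by
  classical
  haveI := hL
  haveI : Fact (Nat.Prime 2) := ⟨Nat.prime_two⟩
  obtain ⟨S⟩ : Nonempty (Sylow 2 L) := inferInstance
  obtain ⟨n, ⟨eS⟩⟩ := hD S
  have hSc : Nat.card ↥(S : Subgroup L) = 2 * n := (Nat.card_congr eS.toEquiv).trans DihedralGroup.nat_card
  have hSpos : 0 < Nat.card ↥(S : Subgroup L) := Nat.card_pos
  have h2 : 2 ∣ Nat.card L := dvd_trans (Dvd.intro n hSc.symm) (S : Subgroup L).card_subgroup_dvd_card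
  have hshape := simpleShape_of_simple hGW hLn S eS h2
  have hcen : center L = ⊥ := (hL.eq_bot_or_eq_top_of_normal (center L) inferInstance).resolve_right
    fun h => hLn ⟨⟨fun x y => mem_center_iff.1 (h ▸ mem_top y) x⟩⟩
  have hn : 2 ≤ n := by
    by_contra hlt
    haveI : IsCyclic ↥(S : Subgroup L) := isCyclic_of_prime_card (p := 2) (by omega)
    have hO : Cfsg.oddCore L = ⊥ := by
      haveI : (Cfsg.oddCore L).Normal := @normal_of_characteristic _ _ _ Cores.pPrimeCore_characteristic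
      refine (hL.eq_bot_or_eq_top_of_normal (Cfsg.oddCore L) inferInstance).resolve_right fun h => ?_
      have := Cores.odd_card_oddCore (G := L)
      rw [h, card_top] at this
      exact Nat.not_even_iff_odd.2 this (even_iff_two_dvd.2 h2)
    haveI := hL.toNontrivial
    haveI := (H63.GW.isPGroup_of_complement hO (H63.GW.hasNormalPComplement_of_cyclic S)).center_nontrivial
    exact (nontrivial_iff_ne_bot _).1 inferInstance hcen
  obtain ⟨l, c, s, -, -, hd⟩ := H39.exists_dGen (S : Subgroup L) S.isPGroup' hn eS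
  -- the two automorphisms
  set φ := L.normalizerMonoidHom with hφ
  set α := φ ⟨a, haL⟩ with hαdef
  set β := φ ⟨b, hbL⟩ with hβdef
  have hφa : ∀ (x : G) (hx : x ∈ Subgroup.normalizer (L : Set G)) (y : L),
      ((φ ⟨x, hx⟩ y : L) : G) = x * y * x⁻¹ := fun _ _ _ => rfl
  have hα2 : α * α = 1 := by
    rw [hαdef, ← map_mul, show (⟨a, haL⟩ : Subgroup.normalizer (L : Set G)) * ⟨a, haL⟩ = 1 from
      Subtype.ext (H39.mul_self_of_orderOf_eq_two ha), map_one]
  have hβ2 : β * β = 1 := by
    rw [hβdef, ← map_mul, show (⟨b, hbL⟩ : Subgroup.normalizer (L : Set G)) * ⟨b, hbL⟩ = 1 from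
      Subtype.ext (H39.mul_self_of_orderOf_eq_two hb), map_one]
  have hαβ : α * β = β * α := by
    rw [hαdef, hβdef, ← map_mul, ← map_mul]
    exact congrArg φ (Subtype.ext hc)
  have hno : ∀ (x : G) (hx : x ∈ Subgroup.normalizer (L : Set G)),
      (∀ R : Sylow 2 ↥(L ⊓ Subgroup.centralizer ({x} : Set G)), IsCyclic R) →
      NoFour (φ ⟨x, hx⟩) := by
    intro x hx hR v w hv hw hvv hww hvw
    by_contra! hcon
    obtain ⟨hv1, hw1, hne⟩ := hcon
    have hmem : ∀ y : L, φ ⟨x, hx⟩ y = y → (y : G) ∈ L ⊓ Subgroup.centralizer ({x} : Set G) :=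
      fun y hy => ⟨y.2, mem_centralizer_singleton_iff.2
        (mul_inv_eq_iff_eq_mul.1 ((hφa x hx y).symm.trans (congrArg Subtype.val hy))).symm⟩
    set C := L ⊓ Subgroup.centralizer ({x} : Set G)
    obtain ⟨T, hT, -⟩ := H39.klein_mk (a := (⟨v, hmem v hv⟩ : C)) (b := ⟨w, hmem w hw⟩)
      (orderOf_eq_prime (by rw [sq]; exact Subtype.ext (congrArg (fun z : L => (z : G)) hvv))
        (fun e => hv1 (Subtype.ext (congrArg (fun z : C => (z : G)) e))))
      (orderOf_eq_prime (by rw [sq]; exact Subtype.ext (congrArg (fun z : L => (z : G)) hww))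
        (fun e => hw1 (Subtype.ext (congrArg (fun z : C => (z : G)) e))))
      (fun e => hne (Subtype.ext (congrArg (fun z : C => (z : G)) e)))
      (Subtype.ext (congrArg (fun z : L => (z : G)) hvw))
    obtain ⟨R, hTR⟩ := (IsPGroup.of_card (p := 2) (n := 2) hT.card_four).exists_le_sylow
    haveI := hR R
    haveI := hT
    exact IsKleinFour.not_isCyclic (G := T)
      (isCyclic_of_injective (inclusion hTR) (inclusion_injective hTR))
  have hαno : NoFour α := hno a haL hCa
  have hβno : NoFour β := hno b hbL hCb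
  have hinner : ∀ γ : MulAut L, γ * γ = 1 → NoFour γ → ∀ y, γ ≠ MulAut.conj y := by
    intro γ hγ hγno y e
    have hyy : y * y ∈ center L := mem_center_iff.2 fun v => by
      have h1 := DFunLike.congr_fun hγ v
      rw [MulAut.mul_apply, e, MulAut.one_apply, MulAut.conj_apply, MulAut.conj_apply] at h1
      nth_rw 1 [← h1]
      group
    rw [hcen, mem_bot] at hyy
    have hfour : ∃ v w : L, v * v = 1 ∧ w * w = 1 ∧ v * w = w * v ∧ v ≠ 1 ∧ w ≠ 1 ∧ v ≠ w ∧
        Commute y v ∧ Commute y w := by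
      by_cases hy : y = 1
      · obtain ⟨w, h1, h2, h3, h4⟩ := exists_commuting_involution hd hd.z_order
        exact ⟨c ^ l, w, H39.mul_self_of_orderOf_eq_two hd.z_order, h1, h4.eq,
          H39.ne_one_of_orderOf_eq_two hd.z_order, h2, h3.symm, hy ▸ Commute.one_left _,
          hy ▸ Commute.one_left _⟩
      · obtain ⟨w, h1, h2, h3, h4⟩ :=
          exists_commuting_involution hd (orderOf_eq_prime (by rw [sq, hyy]) hy)
        exact ⟨y, w, hyy, h1, h4.eq, hy, h2, h3.symm, Commute.refl y, h4⟩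
    obtain ⟨v, w, hvv, hww, hvw, hv1, hw1, hne, hyv, hyw⟩ := hfour
    have hfix : ∀ z, Commute y z → γ z = z := fun z hz => by
      rw [e, MulAut.conj_apply, hz.eq, mul_inv_cancel_right]
    rcases hγno v w (hfix v hyv) (hfix w hyw) hvv hww hvw with h | h | h
    exacts [hv1 h, hw1 h, hne h]
  -- reduce to equality
  suffices heq : α = β by
    refine mem_centralizer_iff.2 fun y hy => ?_
    have h1 : φ (⟨a, haL⟩ * ⟨b, hbL⟩) = 1 := by rw [map_mul, ← hαdef, ← hβdef, ← heq, hα2]
    have h2 := congrArg Subtype.val (DFunLike.congr_fun h1 ⟨y, hy⟩)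
    exact (mul_inv_eq_iff_eq_mul.1 h2).symm
  by_contra hne
  set B := Subgroup.closure ({a, b} : Set G) ⊔ (L ⊓ Subgroup.centralizer ({a} : Set G)) ⊔
    (L ⊓ Subgroup.centralizer ({b} : Set G))
  set H := B.subgroupOf L with hH
  have hHtop : H ≠ ⊤ := fun e => hgen (Subgroup.subgroupOf_eq_top.1 e)
  have hmemC : ∀ (x : G) (hx : x ∈ Subgroup.normalizer (L : Set G)) (y : L), φ ⟨x, hx⟩ y = y →
      (y : G) ∈ L ⊓ Subgroup.centralizer ({x} : Set G) := fun x hx y hy =>
    ⟨y.2, mem_centralizer_singleton_iff.2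
      (mul_inv_eq_iff_eq_mul.1 ((hφa x hx y).symm.trans (congrArg Subtype.val hy))).symm⟩
  have hfα : ∀ y, α y = y → y ∈ H := fun y hy =>
    (le_sup_right.trans le_sup_left : L ⊓ Subgroup.centralizer ({a} : Set G) ≤ B) (hmemC a haL y hy)
  have hfβ : ∀ y, β y = y → y ∈ H := fun y hy =>
    (le_sup_right : L ⊓ Subgroup.centralizer ({b} : Set G) ≤ B) (hmemC b hbL y hy)
  rcases hshape with ⟨F, iF, iF', hodd, h3, ⟨e⟩⟩ | ⟨⟨e⟩⟩
  · set ψ := MulAut.congr e
    have hsymm : ∀ (γ : MulAut L) (y), ψ γ y = e (γ (e.symm y)) := fun _ _ => rfl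
    have hnoψ : ∀ γ : MulAut L, NoFour γ → NoFour (ψ γ) := by
      intro γ hγ v w hv hw hvv hww hvw
      rw [hsymm] at hv hw
      have hv' : γ (e.symm v) = e.symm v := e.injective (hv.trans (e.apply_symm_apply v).symm)
      have hw' : γ (e.symm w) = e.symm w := e.injective (hw.trans (e.apply_symm_apply w).symm)
      rcases hγ _ _ hv' hw' (by rw [← map_mul, hvv, map_one]) (by rw [← map_mul, hww, map_one])
        (by rw [← map_mul, ← map_mul, hvw]) with h | h | h
      · exact Or.inl (e.symm.injective (h.trans (map_one _).symm))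
      · exact Or.inr (Or.inl (e.symm.injective (h.trans (map_one _).symm)))
      · exact Or.inr (Or.inr (e.symm.injective h))
    have hinψ : ∀ γ : MulAut L, (∀ y, γ ≠ MulAut.conj y) → ∀ y, ψ γ ≠ MulAut.conj y := by
      intro γ hγ y h
      refine hγ (e.symm y) (ψ.injective (h.trans (MulEquiv.ext fun z => ?_)))
      rw [hsymm, MulAut.conj_apply, MulAut.conj_apply]
      simp
    refine pair_psl hodd h3 (α := ψ α) (β := ψ β) (by rw [← map_mul, hα2, map_one])
      (by rw [← map_mul, hβ2, map_one]) ((map_mul ψ α β).symm.trans ((congrArg ψ hαβ).trans (map_mul ψ β α)))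
      (fun h => hne (ψ.injective h)) (hnoψ α hαno) (hnoψ β hβno) (hinψ α (hinner α hα2 hαno))
      (hinψ β (hinner β hβ2 hβno)) (H := H.map e.toMonoidHom) (fun h => hHtop ?_)
      (fun y hy => ⟨e.symm y, hfα _ (e.injective (hy.trans (e.apply_symm_apply y).symm)), e.apply_symm_apply y⟩)
      (fun y hy => ⟨e.symm y, hfβ _ (e.injective (hy.trans (e.apply_symm_apply y).symm)), e.apply_symm_apply y⟩)
    apply Subgroup.map_injective (f := e.toMonoidHom) e.injective
    rw [h, map_top_of_surjective _ e.surjective]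
  · set ψ := MulAut.congr e
    obtain ⟨π, hπ⟩ := (S2119.result 7 (by norm_num) (by norm_num)).2 (ψ α)
    have hπ2 : orderOf π = 2 := by
      refine orderOf_eq_prime ((S2119.result 7 (by norm_num) (by norm_num)).1 ?_) fun e1 => ?_
      · rw [sq, map_mul, hπ, ← map_mul, hα2, map_one, map_one]
      · rw [e1, map_one] at hπ
        exact hinner α hα2 hαno 1 ((ψ.injective (hπ.symm.trans (map_one ψ).symm)).trans (map_one _).symm)
    obtain ⟨v, w, hsv, hsw, hπv, hπw, hvv, hww, hvw, hv1, hw1, hvwne⟩ := perm_seven_involution hπ2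
    have hfix : ∀ z : alternatingGroup (Fin 7), π * (z : Equiv.Perm (Fin 7)) = z * π →
        α (e.symm z) = e.symm z := fun z hz => by
      apply e.injective
      rw [e.apply_symm_apply, show e (α (e.symm z)) = ψ α z from rfl, ← hπ]
      exact Subtype.ext (by rw [MulAut.conjNormal_apply, hz, mul_inv_cancel_right])
    set v' : alternatingGroup (Fin 7) := ⟨v, Equiv.Perm.mem_alternatingGroup.2 hsv⟩ with hv'
    set w' : alternatingGroup (Fin 7) := ⟨w, Equiv.Perm.mem_alternatingGroup.2 hsw⟩ with hw'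
    rcases hαno (e.symm v') (e.symm w') (hfix v' hπv) (hfix w' hπw)
      (by rw [← map_mul, show v' * v' = 1 from Subtype.ext hvv, map_one])
      (by rw [← map_mul, show w' * w' = 1 from Subtype.ext hww, map_one])
      (by rw [← map_mul, ← map_mul, show v' * w' = w' * v' from Subtype.ext hvw]) with h | h | h
    · exact hv1 (congrArg Subtype.val (e.symm.injective (h.trans (map_one _).symm)))
    · exact hw1 (congrArg Subtype.val (e.symm.injective (h.trans (map_one _).symm)))
    · exact hvwne (congrArg Subtype.val (e.symm.injective h))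

end Cfsg.Agent.H91.GWCons
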